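import Mathlib
import Groth.Agent.Lib.Helper4.FibDimBC2
import Groth.Agent.Lib.Helper2.FibDim.Retro
import Groth.Agent.Lib.Helper7.LimCons
import Groth.Agent.Lib.Helper7.LimBC

set_option autoImplicit false
set_option linter.style.haveILetI false
set_option linter.unusedVariables false
set_option linter.unusedSectionVars false
set_option backward.isDefEq.respectTransparency.types false

open CategoryTheory CategoryTheory.Limits AlgebraicGeometry Opposite Topology TopologicalSpace

universe u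

/-! helper7: bounds on local fibre dimensions and relative dimension for the base change of a
morphism to a cofiltered limit with affine transition maps hold already at a finite stage. -/

namespace Groth.Agent.Helper7.LimFibDim

open Groth.Agent.Helper7.LimBC Groth.Agent.Helper7
open Groth.Agent.Lib.Helper4.FibDim1 Groth.Agent.Lib.Helper4.FibMap1
  Groth.Agent.Lib.Helper4.FibDimBC2 Groth.Agent.Lib.Helper4.Equi10
  Groth.Agent.Lib.Helper4.PropDim1 Groth.Agent.Lib.Helper4.Chev8 Groth.Agent.Lib.Helper4.Aff2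
  Groth.Agent.Lib.Helper4.LocNoethFib1 Groth.Agent.Lib.Helper4.FibDim4
  Groth.Agent.Lib.Helper4.FlatDimK1 Groth.Agent.Lib.Helper4.Chev3

section Stage

variable {I : Type u} [Category.{u} I] [IsCofiltered I] (D : I ⥤ Scheme.{u}) (c : Cone D)
  (hc : IsLimit c) [∀ {i j : I} (f : i ⟶ j), IsAffineHom (D.map f)] (i₀ : I) {T : Scheme.{u}}
  (a : T ⟶ D.obj i₀) [CompactSpace T]

set_option backward.isDefEq.respectTransparency false in
include hc in
/-- a constructible subset of a quasi-compact scheme over a stage whose preimage in the base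
change to the limit is empty has empty preimage in the base change to some stage. -/
theorem exists_stage_preimage_eq_empty {X : Scheme.{u}} {qX : X ⟶ T} {g : X ⟶ c.pt}
    (hX : IsPullback qX g a (c.π.app i₀)) (N : Set T) (hN : IsConstructible N)
    (hempty : qX ⁻¹' N = ∅) :
    ∃ (j : I) (φ : j ⟶ i₀), ∀ {Xj : Scheme.{u}} {pX : Xj ⟶ T} {h : Xj ⟶ D.obj j},
      IsPullback pX h a (D.map φ) → pX ⁻¹' N = ∅ := by
  let i : Over i₀ := Over.mk (𝟙 i₀)
  let pi : (bcDiagram D i₀ a).obj i ⟶ T := pullback.fst a (D.map i.hom)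
  have hC : IsConstructible (pi ⁻¹' N) := pi.isConstructible_preimage hN
  have hpre : ∀ x : ↥(bcCone hX).pt, (bcCone hX).π.app i x ∉ pi ⁻¹' N := by
    intro x hx
    have e0 : (bcCone hX).π.app i ≫ pi = qX := bcCone_π_fst hX i
    have h1 : pi ((bcCone hX).π.app i x) = qX x := by
      rw [← Scheme.Hom.comp_apply, e0]
      rfl
    have h2 : x ∈ qX ⁻¹' N := by
      change qX x ∈ N
      rw [← h1]
      exact hx
    rw [hempty] at h2
    exact h2
  obtain ⟨j, φ, hj⟩ := LimCons.exists_stage_inter_le (bcDiagram D i₀ a) (bcCone hX)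
    (isLimitBcCone hc hX) hC ⊤ ⊥ isCompact_univ (by
      intro x hx
      exact absurd hx.1 (hpre x))
  refine ⟨j.left, j.hom, ?_⟩
  intro Xj pX h hsq
  ext x
  simp only [Set.mem_preimage, Set.mem_empty_iff_false, iff_false]
  intro hx
  let pj : (bcDiagram D i₀ a).obj j ⟶ T := pullback.fst a (D.map j.hom)
  let e : Xj ⟶ (bcDiagram D i₀ a).obj j := hsq.isoPullback.hom
  have e1 : e ≫ pj = pX := hsq.isoPullback_hom_fst
  have e2 : (bcDiagram D i₀ a).map φ ≫ pi = pj := bcDiagram_map_fst D i₀ a φ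
  have h3 : pi ((bcDiagram D i₀ a).map φ (e x)) = pX x := by
    rw [← Scheme.Hom.comp_apply, e2, ← Scheme.Hom.comp_apply, e1]
  have hmem : e x ∈ (bcDiagram D i₀ a).map φ ⁻¹'
      (pi ⁻¹' N ∩ ((⊤ : ((bcDiagram D i₀ a).obj i).Opens) : Set _)) := by
    refine ⟨?_, trivial⟩
    change pi ((bcDiagram D i₀ a).map φ (e x)) ∈ N
    rw [h3]
    exact hx
  exact hj hmem

set_option backward.isDefEq.respectTransparency false in
include hc in
/-- a closed subset of a quasi-compact scheme over a stage whose preimage in the base change to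
the limit is empty has empty preimage in the base change to some stage. -/
theorem exists_stage_preimage_eq_empty_of_isClosed {X : Scheme.{u}} {qX : X ⟶ T} {g : X ⟶ c.pt}
    (hX : IsPullback qX g a (c.π.app i₀)) (N : Set T) (hN : IsClosed N)
    (hempty : qX ⁻¹' N = ∅) :
    ∃ (j : I) (φ : j ⟶ i₀), ∀ {Xj : Scheme.{u}} {pX : Xj ⟶ T} {h : Xj ⟶ D.obj j},
      IsPullback pX h a (D.map φ) → pX ⁻¹' N = ∅ := by
  let C : Closeds T := ⟨N, hN⟩
  obtain ⟨Tn, ι, hι, hrange⟩ : ∃ (Tn : Scheme.{u}) (ι : Tn ⟶ T),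
      IsClosedImmersion ι ∧ Set.range ι = N :=
    ⟨_, (Scheme.IdealSheafData.vanishingIdeal C).subschemeι, inferInstance, by
      rw [Scheme.IdealSheafData.range_subschemeι,
        Scheme.IdealSheafData.coe_support_vanishingIdeal]
      rfl⟩
  haveI : CompactSpace Tn := QuasiCompact.compactSpace_of_compactSpace ι
  have hY' : IsPullback (pullback.fst ι qX) (pullback.snd ι qX ≫ g) (ι ≫ a) (c.π.app i₀) :=
    (IsPullback.of_hasPullback ι qX).paste_vert hX
  haveI : IsEmpty ↥(pullback ι qX) := by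
    refine ⟨fun y => ?_⟩
    have h1 : qX (pullback.snd ι qX y) = ι (pullback.fst ι qX y) := by
      rw [← Scheme.Hom.comp_apply, ← Scheme.Hom.comp_apply, pullback.condition]
    have h2 : pullback.snd ι qX y ∈ qX ⁻¹' N := by
      change qX (pullback.snd ι qX y) ∈ N
      rw [h1, ← hrange]
      exact ⟨_, rfl⟩
    rw [hempty] at h2
    exact h2
  obtain ⟨j, φ, hj⟩ := exists_isEmpty_pullback D c i₀ (ι ≫ a) hc hY'
  refine ⟨j, φ, ?_⟩
  intro Xj pX h hsq
  ext x
  simp only [Set.mem_preimage, Set.mem_empty_iff_false, iff_false]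
  intro hx
  rw [← hrange] at hx
  obtain ⟨t, ht⟩ := hx
  have h1 : (ι ≫ a) t = D.map φ (h x) := by
    rw [Scheme.Hom.comp_apply, ht, ← Scheme.Hom.comp_apply, hsq.w, Scheme.Hom.comp_apply]
  obtain ⟨w, -, -⟩ := Scheme.Pullback.exists_preimage_pullback (f := ι ≫ a) (g := D.map φ) t (h x) h1
  exact hj.false w

end Stage

section RelDim

variable {X Y : Scheme.{u}} (f : X ⟶ Y) [LocallyOfFiniteType f]

/-- a morphism of relative dimension `d` has local fibre dimension `d` everywhere. -/
theorem fibreDimAt_eq_of_hasRelDim (d : ℕ) (h : Cyc.HasRelDim f d) (x : X) :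
    FlatMor.fibreDimAt f x = (d : WithBot ℕ∞) := by
  have htr : ∀ z : X, (∀ z' : X, f z' = f z → z' ⤳ z → z' = z) → tr f z = d := by
    intro z hmax
    have hw : IsMax (f.asFiber z) := isMax_of_forall _ (fiber_max_of_fibreMax f z hmax)
    have h3 := h (f z) _ (closure_mem_irreducibleComponents_of_isMax (f.fiber (f z)) _ hw)
    rw [dim_closure_of_field (Y.residueField (f z)) (f.fiberToSpecResidueField (f z))
      (f.asFiber z), tr_fiber, f.fiberι_asFiber z] at h3
    exact_mod_cast h3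
  apply le_antisymm
  · apply fibreDimAt_le_of_max_tr_le' f x d
    intro z _ _ hmax
    rw [htr z hmax]
  · obtain ⟨z, hzsp, -, hzmax⟩ := exists_fibreMax_ge f x
    have h1 := fibreDimAt_eq_tr_of_max f z hzmax
    rw [htr z hzmax] at h1
    have hcl := isClosed_setOf_le_fibreDimAt f (FlatMor.fibreDimAt f z)
    have hmem : z ∈ {x : X | FlatMor.fibreDimAt f z ≤ FlatMor.fibreDimAt f x} :=
      le_refl (FlatMor.fibreDimAt f z)
    have h2 : FlatMor.fibreDimAt f z ≤ FlatMor.fibreDimAt f x := hzsp.mem_closed hcl hmem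
    rw [h1] at h2
    exact h2

/-- a morphism whose local fibre dimension is `d` everywhere has relative dimension `d`. -/
theorem hasRelDim_of_forall_fibreDimAt_eq (d : ℕ)
    (h : ∀ x : X, FlatMor.fibreDimAt f x = (d : WithBot ℕ∞)) : Cyc.HasRelDim f d := by
  intro y T hT
  obtain ⟨w, hwmax, rfl⟩ := exists_isMax_closure_eq (f.fiber y) T hT
  rw [dim_closure_of_field (Y.residueField y) (f.fiberToSpecResidueField y) w, tr_fiber]
  have hmax' := fibreMax_of_fiber_max f y w (eq_of_isMax_of_specializes w hwmax)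
  rw [← fibreDimAt_eq_tr_of_max f _ hmax', h]

end RelDim

section Main

variable {I : Type u} [Category.{u} I] [IsCofiltered I] (D : I ⥤ Scheme.{u}) (c : Cone D)
  (hc : IsLimit c) [∀ {i j : I} (f : i ⟶ j), IsAffineHom (D.map f)] (i₀ : I)
  {X₀ Y₀ : Scheme.{u}} (f₀ : X₀ ⟶ Y₀) (g₀ : Y₀ ⟶ D.obj i₀) [CompactSpace X₀]
  {X Y : Scheme.{u}} (f : X ⟶ Y) (g : Y ⟶ c.pt) (qY : Y ⟶ Y₀) (qX : X ⟶ X₀)

set_option backward.isDefEq.respectTransparency false in
include hc in
/-- a bound on the local fibre dimensions of the base change to the limit of a morphism locally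
of finite type holds for the base change to some stage. -/
theorem exists_stage_fibreDimAt_le [LocallyOfFiniteType f₀] (d : ℕ)
    (hY : IsPullback qY g g₀ (c.π.app i₀)) (hX : IsPullback qX f f₀ qY)
    (hd : ∀ x : X, FlatMor.fibreDimAt f x ≤ d) :
    ∃ (i : I) (φ : i ⟶ i₀) (Xi Yi : Scheme.{u}) (fi : Xi ⟶ Yi) (gi : Yi ⟶ D.obj i)
      (pY : Yi ⟶ Y₀) (pX : Xi ⟶ X₀), IsPullback pY gi g₀ (D.map φ) ∧ IsPullback pX fi f₀ pY ∧
        ∀ x : Xi, FlatMor.fibreDimAt fi x ≤ d := by
  haveI : LocallyOfFiniteType f := MorphismProperty.of_isPullback hX inferInstance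
  have hPB : IsPullback qX (f ≫ g) (f₀ ≫ g₀) (c.π.app i₀) := hX.paste_vert hY
  let N : Set X₀ := {x₀ | ((d + 1 : ℕ) : WithBot ℕ∞) ≤ FlatMor.fibreDimAt f₀ x₀}
  have hN : IsClosed N := isClosed_setOf_le_fibreDimAt f₀ _
  have hempty : qX ⁻¹' N = ∅ := by
    ext x
    simp only [Set.mem_preimage, Set.mem_empty_iff_false, iff_false]
    intro hx
    have h1 : ((d + 1 : ℕ) : WithBot ℕ∞) ≤ FlatMor.fibreDimAt f₀ (qX x) := hx
    rw [← fibreDimAt_abs f₀ qY qX f hX x] at h1
    have h2 := le_trans h1 (hd x)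
    have h3 : d + 1 ≤ d := by exact_mod_cast h2
    omega
  obtain ⟨j, φ, hj⟩ := exists_stage_preimage_eq_empty_of_isClosed D c hc i₀ (f₀ ≫ g₀) hPB N hN
    hempty
  refine ⟨j, φ, pullback f₀ (pullback.fst g₀ (D.map φ)), pullback g₀ (D.map φ),
    pullback.snd f₀ (pullback.fst g₀ (D.map φ)), pullback.snd g₀ (D.map φ),
    pullback.fst g₀ (D.map φ), pullback.fst f₀ (pullback.fst g₀ (D.map φ)),
    IsPullback.of_hasPullback _ _, IsPullback.of_hasPullback _ _, ?_⟩
  intro x
  have hsq : IsPullback (pullback.fst f₀ (pullback.fst g₀ (D.map φ)))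
      (pullback.snd f₀ (pullback.fst g₀ (D.map φ)) ≫ pullback.snd g₀ (D.map φ)) (f₀ ≫ g₀)
      (D.map φ) :=
    (IsPullback.of_hasPullback f₀ (pullback.fst g₀ (D.map φ))).paste_vert
      (IsPullback.of_hasPullback g₀ (D.map φ))
  have h1 := hj hsq
  have h2 : pullback.fst f₀ (pullback.fst g₀ (D.map φ)) x ∉ N := by
    intro h
    have : x ∈ (pullback.fst f₀ (pullback.fst g₀ (D.map φ))) ⁻¹' N := h
    rw [h1] at this
    exact this
  have h3 : ¬ ((d + 1 : ℕ) : WithBot ℕ∞) ≤
      FlatMor.fibreDimAt f₀ (pullback.fst f₀ (pullback.fst g₀ (D.map φ)) x) := h2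
  rw [← fibreDimAt_abs f₀ (pullback.fst g₀ (D.map φ))
    (pullback.fst f₀ (pullback.fst g₀ (D.map φ))) (pullback.snd f₀ (pullback.fst g₀ (D.map φ)))
    (IsPullback.of_hasPullback _ _) x] at h3
  haveI : LocallyOfFiniteType (pullback.snd f₀ (pullback.fst g₀ (D.map φ))) :=
    MorphismProperty.pullback_snd _ _ inferInstance
  obtain ⟨e, he, -⟩ := Groth.Agent.Lib.Helper4.Chev2.exists_open_fibreDimAt_le
    (pullback.snd f₀ (pullback.fst g₀ (D.map φ))) x
  rw [he] at h3 ⊢
  have h4 : ¬ d + 1 ≤ e := by exact_mod_cast h3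
  have h5 : e ≤ d := by omega
  exact_mod_cast h5

end Main

/-- the set of points where the local fibre dimension of a morphism locally of finite
presentation differs from a given value is constructible. -/
theorem isConstructible_setOf_fibreDimAt_ne {X Y : Scheme.{u}} (f : X ⟶ Y)
    [LocallyOfFinitePresentation f] (d : ℕ) :
    IsConstructible {x : X | FlatMor.fibreDimAt f x ≠ (d : WithBot ℕ∞)} := by
  have hU : ∀ n : ℕ, IsConstructible {x : X | FlatMor.fibreDimAt f x ≤ (n : WithBot ℕ∞)} :=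
    fun n => (Groth.Agent.Helper2.FibDim.S9355_main f n).isConstructible
      (Groth.Agent.Lib.Helper4.Chev2.S0402_main f n)
  cases d with
  | zero =>
    have e : {x : X | FlatMor.fibreDimAt f x ≠ ((0 : ℕ) : WithBot ℕ∞)} =
        {x : X | FlatMor.fibreDimAt f x ≤ ((0 : ℕ) : WithBot ℕ∞)}ᶜ := by
      ext x
      obtain ⟨e, he, -⟩ := Groth.Agent.Lib.Helper4.Chev2.exists_open_fibreDimAt_le f x
      simp only [Set.mem_ofPred_eq, Set.mem_compl_iff, he, ne_eq]
      constructor
      · intro h h'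
        apply h
        have : e ≤ 0 := by exact_mod_cast h'
        have : e = 0 := by omega
        rw [this]
      · intro h h'
        apply h
        rw [h']
    rw [e]
    exact (hU 0).compl
  | succ m =>
    have e : {x : X | FlatMor.fibreDimAt f x ≠ ((m + 1 : ℕ) : WithBot ℕ∞)} =
        {x : X | FlatMor.fibreDimAt f x ≤ ((m + 1 : ℕ) : WithBot ℕ∞)}ᶜ ∪
          {x : X | FlatMor.fibreDimAt f x ≤ (m : WithBot ℕ∞)} := by
      ext x
      obtain ⟨e, he, -⟩ := Groth.Agent.Lib.Helper4.Chev2.exists_open_fibreDimAt_le f x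
      simp only [Set.mem_ofPred_eq, Set.mem_union, Set.mem_compl_iff, he, ne_eq]
      constructor
      · intro h
        have h1 : e ≠ m + 1 := fun h' => h (by rw [h'])
        by_cases h2 : e ≤ m
        · right
          exact_mod_cast h2
        · left
          intro h3
          have : e ≤ m + 1 := by exact_mod_cast h3
          omega
      · rintro (h | h) h'
        · apply h
          rw [h']
        · have h1 : ((e : ℕ) : WithBot ℕ∞) = ((m + 1 : ℕ) : WithBot ℕ∞) := h'
          have h2 : e = m + 1 := by exact_mod_cast h1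
          have h3 : e ≤ m := by exact_mod_cast h
          omega
    rw [e]
    exact (hU (m + 1)).compl.union (hU m)

section Main2

variable {I : Type u} [Category.{u} I] [IsCofiltered I] (D : I ⥤ Scheme.{u}) (c : Cone D)
  (hc : IsLimit c) [∀ {i j : I} (f : i ⟶ j), IsAffineHom (D.map f)] (i₀ : I)
  {X₀ Y₀ : Scheme.{u}} (f₀ : X₀ ⟶ Y₀) (g₀ : Y₀ ⟶ D.obj i₀) [CompactSpace X₀]
  {X Y : Scheme.{u}} (f : X ⟶ Y) (g : Y ⟶ c.pt) (qY : Y ⟶ Y₀) (qX : X ⟶ X₀)

set_option backward.isDefEq.respectTransparency false in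
include hc in
/-- if the base change to the limit of a morphism locally of finite presentation has relative
dimension `d`, so does its base change to some stage. -/
theorem exists_stage_hasRelDim [LocallyOfFinitePresentation f₀] (d : ℕ)
    (hY : IsPullback qY g g₀ (c.π.app i₀)) (hX : IsPullback qX f f₀ qY)
    (hd : Cyc.HasRelDim f d) :
    ∃ (i : I) (φ : i ⟶ i₀) (Xi Yi : Scheme.{u}) (fi : Xi ⟶ Yi) (gi : Yi ⟶ D.obj i)
      (pY : Yi ⟶ Y₀) (pX : Xi ⟶ X₀), IsPullback pY gi g₀ (D.map φ) ∧ IsPullback pX fi f₀ pY ∧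
        Cyc.HasRelDim fi d := by
  haveI : LocallyOfFiniteType f := MorphismProperty.of_isPullback hX inferInstance
  have hPB : IsPullback qX (f ≫ g) (f₀ ≫ g₀) (c.π.app i₀) := hX.paste_vert hY
  let N : Set X₀ := {x₀ | FlatMor.fibreDimAt f₀ x₀ ≠ (d : WithBot ℕ∞)}
  have hN : IsConstructible N := isConstructible_setOf_fibreDimAt_ne f₀ d
  have hempty : qX ⁻¹' N = ∅ := by
    ext x
    simp only [Set.mem_preimage, Set.mem_empty_iff_false, iff_false]
    intro hx
    have h1 : FlatMor.fibreDimAt f₀ (qX x) ≠ (d : WithBot ℕ∞) := hx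
    rw [← fibreDimAt_abs f₀ qY qX f hX x] at h1
    exact h1 (fibreDimAt_eq_of_hasRelDim f d hd x)
  obtain ⟨j, φ, hj⟩ := exists_stage_preimage_eq_empty D c hc i₀ (f₀ ≫ g₀) hPB N hN hempty
  refine ⟨j, φ, pullback f₀ (pullback.fst g₀ (D.map φ)), pullback g₀ (D.map φ),
    pullback.snd f₀ (pullback.fst g₀ (D.map φ)), pullback.snd g₀ (D.map φ),
    pullback.fst g₀ (D.map φ), pullback.fst f₀ (pullback.fst g₀ (D.map φ)),
    IsPullback.of_hasPullback _ _, IsPullback.of_hasPullback _ _, ?_⟩
  haveI : LocallyOfFiniteType (pullback.snd f₀ (pullback.fst g₀ (D.map φ))) :=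
    MorphismProperty.pullback_snd _ _ inferInstance
  apply hasRelDim_of_forall_fibreDimAt_eq
  intro x
  have hsq : IsPullback (pullback.fst f₀ (pullback.fst g₀ (D.map φ)))
      (pullback.snd f₀ (pullback.fst g₀ (D.map φ)) ≫ pullback.snd g₀ (D.map φ)) (f₀ ≫ g₀)
      (D.map φ) :=
    (IsPullback.of_hasPullback f₀ (pullback.fst g₀ (D.map φ))).paste_vert
      (IsPullback.of_hasPullback g₀ (D.map φ))
  have h1 := hj hsq
  have h2 : pullback.fst f₀ (pullback.fst g₀ (D.map φ)) x ∉ N := by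
    intro h
    have : x ∈ (pullback.fst f₀ (pullback.fst g₀ (D.map φ))) ⁻¹' N := h
    rw [h1] at this
    exact this
  have h3 : ¬ FlatMor.fibreDimAt f₀ (pullback.fst f₀ (pullback.fst g₀ (D.map φ)) x) ≠
      (d : WithBot ℕ∞) := h2
  rw [← fibreDimAt_abs f₀ (pullback.fst g₀ (D.map φ))
    (pullback.fst f₀ (pullback.fst g₀ (D.map φ))) (pullback.snd f₀ (pullback.fst g₀ (D.map φ)))
    (IsPullback.of_hasPullback _ _) x] at h3
  exact not_not.mp h3

end Main2

end Groth.Agent.Helper7.LimFibDim
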