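import Mathlib
import Groth.Agent.Lib.Helper7.LimFibDim.Main
import Groth.Agent.S9187
import Groth.Agent.S2075
import Groth.Prelude.Def_Mor2

set_option autoImplicit false
set_option linter.style.haveILetI false
set_option linter.unusedVariables false
set_option linter.unusedSectionVars false
set_option backward.isDefEq.respectTransparency.types false

open CategoryTheory CategoryTheory.Limits AlgebraicGeometry Opposite Topology TopologicalSpace

universe u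

/-! helper7: a finite locally free base change to a cofiltered limit with affine transition
maps is finite locally free of the same degree already at a finite stage. -/

namespace Groth.Agent.Helper7.LimFibDim

section Transfer

variable {S0 Si Sk : Scheme.{u}} {X₀ Y₀ : Scheme.{u}} {f₀ : X₀ ⟶ Y₀} {g₀ : Y₀ ⟶ S0}

/-- the base change of a morphism along a composite is a base change of its base change along
the second factor. -/
theorem exists_isPullback_stage {b : Si ⟶ S0} (a : Sk ⟶ Si) {ab : Sk ⟶ S0} (hab : a ≫ b = ab)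
    {Xi Yi : Scheme.{u}} {fi : Xi ⟶ Yi} {gi : Yi ⟶ Si} {pY : Yi ⟶ Y₀} {pX : Xi ⟶ X₀}
    (hYi : IsPullback pY gi g₀ b) (hXi : IsPullback pX fi f₀ pY)
    {Xk Yk : Scheme.{u}} {fk : Xk ⟶ Yk} {gk : Yk ⟶ Sk} {pY' : Yk ⟶ Y₀} {pX' : Xk ⟶ X₀}
    (hYk : IsPullback pY' gk g₀ ab) (hXk : IsPullback pX' fk f₀ pY') :
    ∃ (u : Yk ⟶ Yi) (v : Xk ⟶ Xi), IsPullback v fk fi u ∧ IsPullback u gk gi a ∧
      u ≫ pY = pY' := by
  have hw : pY' ≫ g₀ = (gk ≫ a) ≫ b := by
    rw [hYk.w, Category.assoc, hab]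
  let u : Yk ⟶ Yi := hYi.lift pY' (gk ≫ a) hw
  have hu1 : u ≫ pY = pY' := hYi.lift_fst _ _ _
  have hu2 : u ≫ gi = gk ≫ a := hYi.lift_snd _ _ _
  have hw' : pX' ≫ f₀ = (fk ≫ u) ≫ pY := by
    rw [hXk.w, Category.assoc, hu1]
  let v : Xk ⟶ Xi := hXi.lift pX' (fk ≫ u) hw'
  have hv1 : v ≫ pX = pX' := hXi.lift_fst _ _ _
  have hv2 : v ≫ fi = fk ≫ u := hXi.lift_snd _ _ _
  refine ⟨u, v, ?_, ?_, hu1⟩
  · refine IsPullback.of_right ?_ hv2 hXi
    rw [hv1, hu1]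
    exact hXk
  · refine IsPullback.of_right (h₁₂ := pY) (h₂₂ := b) (v₁₃ := g₀) ?_ hu2 hYi
    rw [hu1, hab]
    exact hYk

end Transfer

section Main3

variable {I : Type u} [Category.{u} I] [IsCofiltered I] (D : I ⥤ Scheme.{u}) (c : Cone D)
  (hc : IsLimit c) [∀ {i j : I} (f : i ⟶ j), IsAffineHom (D.map f)] (i₀ : I)
  {X₀ Y₀ : Scheme.{u}} (f₀ : X₀ ⟶ Y₀) (g₀ : Y₀ ⟶ D.obj i₀) [CompactSpace Y₀]
  {X Y : Scheme.{u}} (f : X ⟶ Y) (g : Y ⟶ c.pt) (qY : Y ⟶ Y₀) (qX : X ⟶ X₀)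

set_option backward.isDefEq.respectTransparency false in
include hc in
/-- from stages at which the base change is finite and flat to a stage at which it is finite
locally free of the degree of the base change to the limit. -/
theorem exists_stage_isFinLocFreeOfDeg [LocallyOfFinitePresentation f₀] (d : ℕ)
    (hY : IsPullback qY g g₀ (c.π.app i₀)) (hX : IsPullback qX f f₀ qY)
    (hf : Mor2.IsFinLocFreeOfDeg d f)
    (hfin : ∃ (i : I) (φ : i ⟶ i₀) (Xi Yi : Scheme.{u}) (fi : Xi ⟶ Yi) (gi : Yi ⟶ D.obj i)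
      (pY : Yi ⟶ Y₀) (pX : Xi ⟶ X₀), IsPullback pY gi g₀ (D.map φ) ∧ IsPullback pX fi f₀ pY ∧
        IsFinite fi)
    (hflat : ∃ (i : I) (φ : i ⟶ i₀) (Xi Yi : Scheme.{u}) (fi : Xi ⟶ Yi) (gi : Yi ⟶ D.obj i)
      (pY : Yi ⟶ Y₀) (pX : Xi ⟶ X₀), IsPullback pY gi g₀ (D.map φ) ∧ IsPullback pX fi f₀ pY ∧
        Flat fi) :
    ∃ (i : I) (φ : i ⟶ i₀) (Xi Yi : Scheme.{u}) (fi : Xi ⟶ Yi) (gi : Yi ⟶ D.obj i)
      (pY : Yi ⟶ Y₀) (pX : Xi ⟶ X₀), IsPullback pY gi g₀ (D.map φ) ∧ IsPullback pX fi f₀ pY ∧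
        Mor2.IsFinLocFreeOfDeg d fi := by
  obtain ⟨i₁, φ₁, X₁, Y₁, f₁, g₁, pY₁, pX₁, hY₁, hX₁, hfin₁⟩ := hfin
  obtain ⟨i₂, φ₂, X₂, Y₂, f₂, g₂, pY₂, pX₂, hY₂, hX₂, hflat₂⟩ := hflat
  obtain ⟨k₀, α₁, α₂, -⟩ := IsCofilteredOrEmpty.cone_objs i₁ i₂
  obtain ⟨k, β, hβ⟩ := IsCofilteredOrEmpty.cone_maps (α₁ ≫ φ₁) (α₂ ≫ φ₂)
  -- the standard stage `k`
  obtain ⟨ψ, hψ⟩ : ∃ ψ : k ⟶ i₀, ψ = β ≫ α₁ ≫ φ₁ := ⟨_, rfl⟩
  have hψ1 : (β ≫ α₁) ≫ φ₁ = ψ := by rw [hψ, Category.assoc]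
  have hψ2 : (β ≫ α₂) ≫ φ₂ = ψ := by rw [hψ, Category.assoc, hβ]
  let Yk := pullback g₀ (D.map ψ)
  let pYk : Yk ⟶ Y₀ := pullback.fst g₀ (D.map ψ)
  let gk : Yk ⟶ D.obj k := pullback.snd g₀ (D.map ψ)
  let Xk := pullback f₀ pYk
  let pXk : Xk ⟶ X₀ := pullback.fst f₀ pYk
  let fk : Xk ⟶ Yk := pullback.snd f₀ pYk
  have hYk : IsPullback pYk gk g₀ (D.map ψ) := IsPullback.of_hasPullback _ _
  have hXk : IsPullback pXk fk f₀ pYk := IsPullback.of_hasPullback _ _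
  haveI hfk_fin : IsFinite fk := by
    obtain ⟨u, v, h1, -, -⟩ := exists_isPullback_stage (D.map (β ≫ α₁))
      (by rw [← D.map_comp, hψ1]) hY₁ hX₁ hYk hXk
    exact MorphismProperty.of_isPullback h1 hfin₁
  haveI hfk_flat : Flat fk := by
    obtain ⟨u, v, h1, -, -⟩ := exists_isPullback_stage (D.map (β ≫ α₂))
      (by rw [← D.map_comp, hψ2]) hY₂ hX₂ hYk hXk
    exact MorphismProperty.of_isPullback h1 hflat₂
  haveI hfk_lfp : LocallyOfFinitePresentation fk := MorphismProperty.pullback_snd _ _ inferInstance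
  haveI : CompactSpace Yk := by
    haveI : QuasiCompact pYk := MorphismProperty.pullback_fst _ _ (inferInstance : QuasiCompact (D.map ψ))
    exact QuasiCompact.compactSpace_of_compactSpace pYk
  -- the limit is a base change of the stage `k`
  obtain ⟨uL, vL, hL1, hL2, -⟩ := exists_isPullback_stage (c.π.app k) (c.w ψ) hYk hXk hY hX
  obtain ⟨⟨hf1, hf2, hf3⟩, hrank⟩ := hf
  haveI := hf1
  haveI := hf2
  let N : Set Yk := {y | Scheme.Hom.finrank fk y ≠ d}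
  have hlc : IsLocallyConstant (Scheme.Hom.finrank fk) := Scheme.Hom.isLocallyConstant_finrank fk
  have hNo : IsOpen N := hlc {d}ᶜ
  have hNc : IsClosed N := by
    rw [← isOpen_compl_iff]
    have : Nᶜ = (Scheme.Hom.finrank fk) ⁻¹' {d} := by
      ext y
      simp only [N, Set.mem_compl_iff, Set.mem_ofPred_eq, ne_eq, not_not, Set.mem_preimage,
        Set.mem_singleton_iff]
    rw [this]
    exact hlc {d}
  have hN : IsConstructible N := by
    refine IsRetrocompact.isConstructible hNo ?_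
    intro V hVc hVo
    exact hVc.inter_left hNc
  have hempty : uL ⁻¹' N = ∅ := by
    ext y
    simp only [Set.mem_preimage, Set.mem_empty_iff_false, iff_false]
    intro hy
    apply hy
    rw [← Scheme.Hom.finrank_of_isPullback vL f fk uL hL1 y]
    exact hrank y
  obtain ⟨m, γ, hm⟩ := exists_stage_preimage_eq_empty D c hc k gk hL2 N hN hempty
  -- the standard stage `m`
  obtain ⟨χ, hχ⟩ : ∃ χ : m ⟶ i₀, χ = γ ≫ ψ := ⟨_, rfl⟩
  refine ⟨m, χ, pullback f₀ (pullback.fst g₀ (D.map χ)), pullback g₀ (D.map χ),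
    pullback.snd f₀ (pullback.fst g₀ (D.map χ)), pullback.snd g₀ (D.map χ),
    pullback.fst g₀ (D.map χ), pullback.fst f₀ (pullback.fst g₀ (D.map χ)),
    IsPullback.of_hasPullback _ _, IsPullback.of_hasPullback _ _, ?_⟩
  obtain ⟨u, v, h1, h2, -⟩ := exists_isPullback_stage (D.map γ)
    (by rw [← D.map_comp, hχ]) hYk hXk (IsPullback.of_hasPullback g₀ (D.map χ))
    (IsPullback.of_hasPullback f₀ (pullback.fst g₀ (D.map χ)))
  refine ⟨⟨MorphismProperty.of_isPullback h1 hfk_fin, MorphismProperty.of_isPullback h1 hfk_flat,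
    MorphismProperty.pullback_snd _ _ inferInstance⟩, ?_⟩
  intro y
  rw [Scheme.Hom.finrank_of_isPullback v _ fk u h1 y]
  by_contra hne
  have : y ∈ u ⁻¹' N := hne
  rw [hm h2] at this
  exact this

end Main3

end Groth.Agent.Helper7.LimFibDim
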